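import Groth.Agent.ModSiteLib.PullFlat
import Groth.Agent.ModSiteLib.FreeGen
import Groth.Prelude.Def_ExtSupp
import Mathlib.CategoryTheory.Sites.CoversTop.Basic

/-!
# The closed quotient restricted to an open containing the closed subset
-/

set_option autoImplicit false
set_option linter.style.haveILetI false
set_option backward.isDefEq.respectTransparency false
set_option backward.isDefEq.respectTransparency.types false

universe u

open CategoryTheory Limits Opposite Groth.Agent.ModSiteLib
open Groth.Agent.ModSiteLib.SetPull _root_.ModSiteLib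

namespace Groth.Agent.ExtZLocLib

variable {C : Type u} [SmallCategory C] {J : GrothendieckTopology C} {O : Sheaf J CommRingCat.{u}}

section Gen

variable {U : C}

/-- A section of a module on `C/U` as a section of its extension by zero. -/
noncomputable def ιE (G : ModSite.Mod (O.over U)) (Y : Over U) (x : Sec G Y) :
    Sec ((ModSite.extZero O U).obj G) Y.left :=
  ap ((ModSite.extZeroAdj O U).unit.app G) Y x

theorem ιE_sum (G : ModSite.Mod (O.over U)) (Y : Over U) {β : Type*} (s : Finset β) (x : β → Sec G Y) :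
    ιE G Y (∑ i ∈ s, x i) = ∑ i ∈ s, ιE G Y (x i) :=
  ap_sum _ Y s x

theorem ιE_smul (G : ModSite.Mod (O.over U)) (Y : Over U) (r : O.obj.obj (op Y.left)) (x : Sec G Y) :
    ιE G Y ((show (O.over U).obj.obj (op Y) from r) • x) = r • ιE G Y x :=
  ap_smul ((ModSite.extZeroAdj O U).unit.app G) Y _ x

theorem ιE_zero (G : ModSite.Mod (O.over U)) (Y : Over U) : ιE G Y 0 = 0 := ap_zero _ Y

theorem res_ιE (G : ModSite.Mod (O.over U)) {Y Y' : Over U} (k : Y' ⟶ Y) (x : Sec G Y) :
    res ((jP O).obj ((ModSite.extZero O U).obj G)) k.left.op (ιE G Y x) =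
      ιE G Y' (res ((jP (O.over U)).obj G) k.op x) :=
  (app_res ((jP (O.over U)).map ((ModSite.extZeroAdj O U).unit.app G)) k.op x).symm

theorem ap_ιE {G G' : ModSite.Mod (O.over U)} (a : G ⟶ G') (Y : Over U) (x : Sec G Y) :
    ap ((ModSite.extZero O U).map a) Y.left (ιE G Y x) = ιE G' Y (ap a Y x) := by
  have h := congrArg (fun t => ap t Y x) ((ModSite.extZeroAdj O U).unit.naturality a)
  exact h.symm

/-- The counit on a section coming from `C/U`. -/
theorem ap_counit_ιE (M : ModSite.Mod O) (Y : Over U) (x : Sec ((ModSite.restr O U).obj M) Y) :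
    ap ((ModSite.extZeroAdj O U).counit.app M) Y.left (ιE ((ModSite.restr O U).obj M) Y x) =
      (show Sec M Y.left from x) :=
  congrArg (fun t => ap t Y x) ((ModSite.extZeroAdj O U).right_triangle_components M)

theorem isGenA_ιE {I : Type u} {obj : I → Over U} {G : ModSite.Mod (O.over U)}
    {m : ∀ i, Sec G (obj i)} (hm : IsGenA m) :
    IsGenA (obj := fun i => (obj i).left) fun i => ιE G (obj i) (m i) := fun P => by
  have : (fun g : (ModSite.extZero O U).obj G ⟶ P => fun i => ap g (obj i).left (ιE G (obj i) (m i))) =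
      (fun g => fun i => ap g (obj i) (m i)) ∘ (ModSite.extZeroAdj O U).homEquiv G P :=
    funext fun g => funext fun i => by
      show _ = ap ((ModSite.extZeroAdj O U).homEquiv G P g) (obj i) (m i)
      rw [Adjunction.homEquiv_unit]
      rfl
  rw [this]
  exact (hm ((ModSite.restr O U).obj P)).comp ((ModSite.extZeroAdj O U).homEquiv G P).bijective

/-- Sections of an extension by zero are locally combinations of sections from `C/U`. -/
theorem loc_extZero (G : ModSite.Mod (O.over U)) {Z : C} (s : Sec ((ModSite.extZero O U).obj G) Z) :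
    Loc J Z fun Z' g => ∃ (n : ℕ) (c : Fin n → O.obj.obj (op Z')) (h : Fin n → (Z' ⟶ U))
      (x : ∀ i, Sec G (Over.mk (h i))),
      res ((jP O).obj ((ModSite.extZero O U).obj G)) g.op s = ∑ i, c i • ιE G (Over.mk (h i)) (x i) := by
  let π := coverπ G
  haveI : (ModSite.extZero O U).PreservesEpimorphisms :=
    Functor.preservesEpimorphisms_of_adjunction (ModSite.extZeroAdj O U)
  haveI : Epi π := epi_coverπ G
  haveI : (SheafOfModules.toSheaf (ModSite.ringSh O)).PreservesHomology :=
    haveI : PreservesFiniteColimits (SheafOfModules.toSheaf.{u} (ModSite.ringSh O)) := inferInstance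
    inferInstance
  haveI : Epi ((SheafOfModules.toSheaf (ModSite.ringSh O)).map ((ModSite.extZero O U).map π)) := inferInstance
  have hsurj := (Sheaf.isLocallySurjective_iff_epi' AddCommGrpCat.{u}
    ((SheafOfModules.toSheaf (ModSite.ringSh O)).map ((ModSite.extZero O U).map π))).2 inferInstance
  obtain ⟨S, hS, hp⟩ : Loc J Z fun Z' g => ∃ p, ap ((ModSite.extZero O U).map π) Z' p =
      res ((jP O).obj ((ModSite.extZero O U).obj G)) g.op s :=
    haveI : Presheaf.IsLocallySurjective J ((PresheafOfModules.toPresheaf _).map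
      ((jP O).map ((ModSite.extZero O U).map π))) := hsurj
    loc_of_isLocallySurjective ((jP O).map ((ModSite.extZero O U).map π)) s
  refine Loc.bind (⟨S, hS, hp⟩ : Loc J Z _) fun Z₁ g ⟨p, hp⟩ => ?_
  refine (loc_hatA (isGenA_ιE (isGenA_genSec (O := O.over U) (obj := fun i : secIdx G => i.1))) p).mono
    fun Z₂ g' ⟨y, hy⟩ => ?_
  let e := (Fintype.equivFin y.support).symm
  refine ⟨_, fun i => y (e i).1, fun i => (e i).1.2 ≫ (e i).1.1.1.hom,
    fun i => res ((jP (O.over U)).obj G) (Over.homMk (U := Over.mk ((e i).1.2 ≫ (e i).1.1.1.hom))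
      (V := (e i).1.1.1) (e i).1.2 rfl).op (e i).1.1.2, ?_⟩
  rw [op_comp, ← res_comp, ← hp, ← app_res ((jP O).map ((ModSite.extZero O U).map π)) g'.op p]
  refine (congrArg (ap ((ModSite.extZero O U).map π) Z₂) hy).trans ?_
  refine (map_sum (((jP O).map ((ModSite.extZero O U).map π)).app (op Z₂)).hom _ _).trans ?_
  rw [← Finset.sum_coe_sort y.support]
  let T : y.support → Sec ((ModSite.extZero O U).obj G) Z₂ := fun q =>
    y q.1 • ιE G (Over.mk (q.1.2 ≫ q.1.1.1.hom))
      (res ((jP (O.over U)).obj G) (Over.homMk (U := Over.mk (q.1.2 ≫ q.1.1.1.hom))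
        (V := q.1.1.1) q.1.2 rfl).op q.1.1.2)
  refine Eq.trans ?_ (e.sum_comp T).symm
  refine Finset.sum_congr rfl fun q _ => ?_
  refine (ap_smul ((ModSite.extZero O U).map π) Z₂ _ _).trans (congrArg (y q.1 • ·) ?_)
  refine (app_res ((jP O).map ((ModSite.extZero O U).map π)) q.1.2.op _).trans ?_
  refine Eq.trans (congrArg (res _ q.1.2.op) ((ap_ιE π q.1.1.1 _).trans (congrArg (ιE G q.1.1.1)
    (congrFun ((Equiv.ofBijective _ (isGenA_genSec (O := O.over U) (obj := fun i : secIdx G => i.1) G)).apply_symm_apply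
      fun i => i.2) q.1.1)))) ?_
  exact res_ιE G (Over.homMk (U := Over.mk (q.1.2 ≫ q.1.1.1.hom)) (V := q.1.1.1) q.1.2 rfl) _

end Gen

section Quot

variable (U : C) (M : ModSite.Mod O)

/-- The projection kills sections over objects mapping to `U`. -/
theorem ap_quotπ_eq_zero (Y : Over U) (m : Sec M Y.left) :
    ap ((ModSite.quotOnπ O U).app M) Y.left m = 0 := by
  rw [show m = ap ((ModSite.extZeroAdj O U).counit.app M) Y.left
    (ιE ((ModSite.restr O U).obj M) Y m) from (ap_counit_ιE M Y m).symm, ← ap_comp]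
  rw [show (ModSite.extZeroAdj O U).counit.app M ≫ (ModSite.quotOnπ O U).app M = 0 from cokernel.condition _]
  rfl

instance epi_quotπ : Epi ((ModSite.quotOnπ O U).app M) := by
  change Epi (coequalizer.π _ _); infer_instance

/-- The closed quotient vanishes on objects mapping to `U`. -/
theorem quot_sec_eq_zero {Z : C} (g : Z ⟶ U) (q : Sec ((ModSite.quotOn O U).obj M) Z) : q = 0 := by
  refine sec_eq_zero_of_loc _ q ((loc_of_epi ((ModSite.quotOnπ O U).app M) q).mono ?_)
  rintro Z' k ⟨p, hp⟩
  rw [← hp]
  exact ap_quotπ_eq_zero U M (Over.mk (k ≫ g)) p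

variable {U M}

/-- A map out of a restriction killing sections over objects mapping to `U` kills `M_U`. -/
theorem restr_counit_comp_eq_zero (V : C) {N : ModSite.Mod (O.over V)}
    (φ : (ModSite.restr O V).obj M ⟶ N)
    (h : ∀ (Y : Over V) (_ : Y.left ⟶ U) (m : Sec M Y.left), ap φ Y m = 0) :
    (ModSite.restr O V).map ((ModSite.extZeroAdj O U).counit.app M) ≫ φ = 0 := by
  let ε : (ModSite.extZero O U).obj ((ModSite.restr O U).obj M) ⟶ M :=
    (ModSite.extZeroAdj O U).counit.app M
  have key : ∀ (Y : Over V) (t : Sec ((ModSite.extZero O U).obj ((ModSite.restr O U).obj M)) Y.left),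
      ap φ Y (show Sec ((ModSite.restr O V).obj M) Y from ap ε Y.left t) = 0 := by
    intro Y t
    refine sec_eq_zero_of_loc N _ ?_
    obtain ⟨S, hS, hp⟩ := loc_extZero ((ModSite.restr O U).obj M) t
    refine ⟨(Sieve.overEquiv Y).symm S, J.overEquiv_symm_mem_over Y S hS, fun Y' k hk => ?_⟩
    obtain ⟨n, c, g, x, hx⟩ := hp k.left ((Sieve.overEquiv_symm_iff S k).1 hk)
    refine (app_res ((jP (O.over V)).map φ) k.op _).symm.trans ?_
    show ap φ Y' (show Sec ((ModSite.restr O V).obj M) Y' from
      res ((jP O).obj M) k.left.op (ap ε Y.left t)) = 0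
    rw [show res ((jP O).obj M) k.left.op (ap ε Y.left t) =
        ∑ i, c i • (show Sec M Y'.left from x i) from by
      refine (app_res ((jP O).map ε) k.left.op _).symm.trans ?_
      show ap ε Y'.left (res _ k.left.op t) = _
      rw [hx, ap_sum]
      refine Finset.sum_congr rfl fun i _ => ?_
      rw [ap_smul]
      exact congrArg (c i • ·) (ap_counit_ιE M (Over.mk (g i)) (x i))]
    refine (map_sum (((jP (O.over V)).map φ).app (op Y')).hom
      (fun i => (show (O.over V).obj.obj (op Y') from c i) • (show Sec ((ModSite.restr O V).obj M) Y' from x i))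
      Finset.univ).trans (Finset.sum_eq_zero fun i _ => ?_)
    refine (map_smul (((jP (O.over V)).map φ).app (op Y')).hom _ _).trans ?_
    refine (congrArg ((show (O.over V).obj.obj (op Y') from c i) • ·) ?_).trans (smul_zero _)
    exact h Y' (g i) (x i)
  exact SheafOfModules.hom_ext (PresheafOfModules.hom_ext fun Y => ModuleCat.hom_ext
    (LinearMap.ext fun s => key Y.unop s))

/-- The counit is an isomorphism on the closed quotient, when the closed subset lies in `V`. -/
theorem isIso_counit_quot (V : C) (hV : ∀ X : C, Subsingleton (X ⟶ V))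
    (hUV : J.CoversTop (fun b : Bool => cond b U V)) :
    IsIso ((ModSite.extZeroAdj O V).counit.app ((ModSite.quotOn O U).obj M)) := by
  let Q := (ModSite.quotOn O U).obj M
  let c : (ModSite.extZero O V).obj ((ModSite.restr O V).obj Q) ⟶ Q :=
    (ModSite.extZeroAdj O V).counit.app Q
  have hloc : ∀ Z : C, Loc J Z fun Z' _ => Nonempty (Z' ⟶ U) ∨ Nonempty (Z' ⟶ V) := fun Z =>
    ⟨_, hUV Z, fun Z' g hg => by
      obtain ⟨b, ⟨a⟩⟩ := (Sieve.mem_ofObjects_iff ..).1 hg
      cases b
      · exact Or.inr ⟨a⟩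
      · exact Or.inl ⟨a⟩⟩
  haveI : Epi c := epi_of_loc_surjective c fun Z q => (hloc Z).mono fun Z' g hg => by
    rcases hg with ⟨⟨h⟩⟩ | ⟨⟨h⟩⟩
    · exact ⟨0, (ap_zero c Z').trans (quot_sec_eq_zero U M h _).symm⟩
    · exact ⟨_, ap_counit_ιE Q (Over.mk h) (res ((jP O).obj Q) g.op q)⟩
  haveI : Mono c := mono_of_injective_ap c fun Z => (injective_iff_map_eq_zero
    (((jP O).map c).app (op Z)).hom).2 fun s hs => by
      refine sec_eq_zero_of_loc _ s ?_
      refine Loc.bind (hloc Z) fun Z₁ g₁ hg₁ => ?_
      refine (loc_extZero ((ModSite.restr O V).obj Q)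
        (res ((jP O).obj ((ModSite.extZero O V).obj ((ModSite.restr O V).obj Q))) g₁.op s)).mono ?_
      rintro Z₂ g₂ ⟨n, a, h, x, hx⟩
      rw [op_comp, ← res_comp, hx]
      rcases hg₁ with ⟨⟨u⟩⟩ | ⟨⟨v⟩⟩
      · refine Finset.sum_eq_zero fun i _ => ?_
        rw [show x i = 0 from quot_sec_eq_zero U M (g₂ ≫ u) (x i), ιE_zero, smul_zero]
      · let w : Z₂ ⟶ V := g₂ ≫ v
        have hx' : ∀ i, ∃ x' : Sec ((ModSite.restr O V).obj Q) (Over.mk w),
            ιE _ (Over.mk (h i)) (x i) = ιE _ (Over.mk w) x' := fun i => by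
          haveI := hV Z₂
          have : h i = w := Subsingleton.elim _ _
          revert x
          rw [this]
          intro x _
          exact ⟨x i, rfl⟩
        choose x' hx' using hx'
        have h1 : ∑ i, a i • ιE ((ModSite.restr O V).obj Q) (Over.mk (h i)) (x i) =
            ιE ((ModSite.restr O V).obj Q) (Over.mk w)
              (∑ i, (show (O.over V).obj.obj (op (Over.mk w)) from a i) • x' i) := by
          rw [ιE_sum]
          refine Finset.sum_congr rfl fun i _ => ?_
          rw [hx' i]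
          exact (ιE_smul ((ModSite.restr O V).obj Q) (Over.mk w) (a i) (x' i)).symm
        have h2 : (show Sec Q Z₂ from
            ∑ i, (show (O.over V).obj.obj (op (Over.mk w)) from a i) • x' i) = 0 := by
          refine (ap_counit_ιE Q (Over.mk w) _).symm.trans ?_
          show ap c Z₂ (ιE ((ModSite.restr O V).obj Q) (Over.mk w) _) = 0
          rw [← h1, ← hx]
          exact ap_res_eq_zero c g₂ (ap_res_eq_zero c g₁ hs)
        rw [h1, show (∑ i, (show (O.over V).obj.obj (op (Over.mk w)) from a i) • x' i) = 0 from h2, ιE_zero]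
  exact isIso_of_mono_of_epi _

/-- The closed quotient on `V` is the closed quotient of the restriction. -/
theorem nonempty_restr_quot_iso [HasBinaryProducts C] (V : C) :
    Nonempty ((ModSite.restr O V).obj ((ModSite.quotOn O U).obj M) ≅
      (ModSite.quotOn (O.over V) (Over.mk (prod.snd : U ⨯ V ⟶ V))).obj ((ModSite.restr O V).obj M)) := by
  let R := ModSite.restr O V
  let W : Over V := Over.mk (prod.snd : U ⨯ V ⟶ V)
  let π : R.obj M ⟶ R.obj ((ModSite.quotOn O U).obj M) := R.map ((ModSite.quotOnπ O U).app M)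
  let π' := (ModSite.quotOnπ (O.over V) W).app (R.obj M)
  haveI : Functor.IsLeftAdjoint R := inferInstanceAs (ModSite.HasPushOver O V)
  haveI : R.PreservesEpimorphisms :=
    Functor.preservesEpimorphisms_of_adjunction (Adjunction.ofIsLeftAdjoint R)
  haveI : Epi π := inferInstance
  have h1 : R.map ((ModSite.extZeroAdj O U).counit.app M) ≫ π' = 0 :=
    restr_counit_comp_eq_zero V π' fun Y g m => by
      let k : Y ⟶ W := Over.homMk (prod.lift g Y.hom) (by simp [W])
      exact ap_quotπ_eq_zero (O := O.over V) W (R.obj M) (Over.mk k) m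
  have h2 : (ModSite.extZeroAdj (O.over V) W).counit.app (R.obj M) ≫ π = 0 := by
    apply ((ModSite.extZeroAdj (O.over V) W).homEquiv _ _).injective
    refine SheafOfModules.hom_ext (PresheafOfModules.hom_ext fun Y => ModuleCat.hom_ext (LinearMap.ext fun s => ?_))
    refine Eq.trans (quot_sec_eq_zero U M (Z := Y.unop.left.left)
      (Y.unop.hom.left ≫ prod.fst) _) (quot_sec_eq_zero U M (Z := Y.unop.left.left)
      (Y.unop.hom.left ≫ prod.fst) _).symm
  let Q := (ModSite.quotOn O U).obj M
  let Q' := (ModSite.quotOn (O.over V) W).obj (R.obj M)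
  haveI : PreservesColimitsOfSize.{0, 0} R := (Adjunction.ofIsLeftAdjoint R).leftAdjoint_preservesColimits
  let hc := CokernelCofork.mapIsColimit _ (cokernelIsCokernel ((ModSite.extZeroAdj O U).counit.app M)) R
  obtain ⟨l, hl⟩ := CokernelCofork.IsColimit.desc' hc π' h1
  let l' : Q' ⟶ R.obj Q := cokernel.desc _ π h2
  have hl' : π' ≫ l' = π := cokernel.π_desc _ _ _
  have hl2 : π ≫ l = π' := hl
  haveI : Epi π' := epi_quotπ W (R.obj M)
  exact ⟨{ hom := l
           inv := l'
           hom_inv_id := by exact (cancel_epi π).1 ((Category.assoc _ _ _).symm.trans ((congrArg (· ≫ l') hl2).trans (hl'.trans (Category.comp_id _).symm)))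
           inv_hom_id := by exact (cancel_epi π').1 ((Category.assoc _ _ _).symm.trans ((congrArg (· ≫ l) hl').trans (hl2.trans (Category.comp_id _).symm))) }⟩

end Quot

end Groth.Agent.ExtZLocLib
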